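import Groth.Agent.ArtSchr31.Reduce
import Mathlib.RingTheory.Etale.Basic
import Mathlib.RingTheory.Kaehler.Basic
import Mathlib.RingTheory.Unramified.Basic
import Mathlib.RingTheory.Ideal.Cotangent
import Mathlib.RingTheory.Extension.Presentation.Submersive
import Mathlib.RingTheory.Smooth.StandardSmoothOfFree
import Mathlib.RingTheory.RingHom.StandardSmooth
import Mathlib.RingTheory.Support
import Mathlib.RingTheory.LocalRing.Module
import Mathlib.Algebra.MvPolynomial.PDeriv
import Mathlib.Algebra.CharP.Frobenius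
import Mathlib.RingTheory.TensorProduct.Finite

/-! In characteristic `p`, finite étale algebras lift along quotient maps. -/

set_option autoImplicit false

universe u

open TensorProduct MvPolynomial

namespace Groth.Agent.ArtSchr31

theorem span_pow_eq_top (p : ℕ) [Fact p.Prime] (A B : Type u) [CommRing A] [CommRing B] [Algebra A B]
    [CharP B p] [Module.Finite A B] [Algebra.FormallyUnramified A B] :
    Submodule.span A (Set.range fun b : B => b ^ p) = ⊤ := by
  let M : Submonoid B := MonoidHom.mrange (powMonoidHom p : B →* B)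
  let B' : Subalgebra A B := Algebra.adjoin A (M : Set B)
  suffices h : B' = ⊤ by
    have h1 : Subalgebra.toSubmodule B' = ⊤ := by rw [h, Algebra.top_toSubmodule]
    rw [Algebra.adjoin_eq_span, Submonoid.closure_eq] at h1
    exact h1
  haveI : Module.Finite B' B := Module.Finite.of_restrictScalars_finite A B' B
  haveI : Algebra.FormallyUnramified B' B := Algebra.FormallyUnramified.of_restrictScalars A B' B
  let I := KaehlerDifferential.ideal B' B
  have hI : IsIdempotentElem I := by
    haveI : Subsingleton (Ω[B⁄↥B']) := inferInstance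
    exact (Ideal.cotangent_subsingleton_iff I).1 (inferInstanceAs (Subsingleton Ω[B⁄↥B']))
  haveI : Algebra.EssFiniteType B' B := inferInstance
  have hfg : I.FG := KaehlerDifferential.ideal_fg B' B
  have hnil : I ≤ nilradical (B ⊗[↥B'] B) := by
    rw [show I = _ from (KaehlerDifferential.span_range_eq_ideal ↥B' B).symm, Ideal.span_le]
    rintro _ ⟨b, rfl⟩
    refine ⟨p, ?_⟩
    show ((1 : B) ⊗ₜ[↥B'] b - b ⊗ₜ[↥B'] (1 : B)) ^ p = 0
    have hp0 : (p : B ⊗[↥B'] B) = 0 := by
      rw [← map_natCast (Algebra.TensorProduct.includeLeft : B →ₐ[↥B'] B ⊗[↥B'] B), CharP.cast_eq_zero, map_zero]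
    obtain ⟨r, hr⟩ := exists_add_pow_prime_eq (Fact.out : p.Prime)
      ((1 : B) ⊗ₜ[↥B'] b - b ⊗ₜ[↥B'] (1 : B)) (b ⊗ₜ[↥B'] (1 : B))
    rw [sub_add_cancel, hp0, zero_mul, zero_mul, zero_mul, add_zero] at hr
    have h1 : ((1 : B) ⊗ₜ[↥B'] b) ^ p = (b ⊗ₜ[↥B'] (1 : B)) ^ p := by
      rw [Algebra.TensorProduct.tmul_pow, Algebra.TensorProduct.tmul_pow, one_pow]
      have hb : b ^ p ∈ B' := Algebra.subset_adjoin ⟨b, rfl⟩
      calc (1 : B) ⊗ₜ[↥B'] (b ^ p) = 1 ⊗ₜ[↥B'] ((⟨_, hb⟩ : B') • (1 : B)) := by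
            rw [Algebra.smul_def, mul_one]; rfl
        _ = ((⟨_, hb⟩ : B') • (1 : B)) ⊗ₜ[↥B'] 1 := (smul_tmul _ _ _).symm
        _ = (b ^ p) ⊗ₜ[↥B'] 1 := by rw [Algebra.smul_def, mul_one]; rfl
    rw [h1] at hr
    exact right_eq_add.1 hr
  obtain ⟨n, hn⟩ := (Ideal.exists_pow_le_of_le_radical_of_fg hnil hfg : ∃ n, I ^ n ≤ 0)
  have hI0 : I = ⊥ := by
    rw [Ideal.zero_eq_bot, le_bot_iff] at hn
    cases n with
    | zero =>
      rw [pow_zero, Ideal.one_eq_top] at hn
      exact le_bot_iff.1 (hn ▸ le_top)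
    | succ n => rw [hI.pow_succ_eq n] at hn; exact hn
  have hsym : ∀ b : B, (1 : B) ⊗ₜ[↥B'] b = b ⊗ₜ[↥B'] (1 : B) := fun b => by
    rw [← sub_eq_zero, ← Ideal.mem_bot, ← hI0]
    exact KaehlerDifferential.one_smul_sub_smul_one_mem_ideal ↥B' b
  let S : Submodule B' B := LinearMap.range (Algebra.linearMap B' B)
  have hzero : Subsingleton (B ⊗[↥B'] (B ⧸ S)) := by
    refine ⟨fun a b => ?_⟩
    have hz : ∀ z : B ⊗[↥B'] (B ⧸ S), z = 0 := fun z => by
      induction z using TensorProduct.induction_on with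
      | zero => rfl
      | add x y hx hy => rw [hx, hy, add_zero]
      | tmul x m =>
        obtain ⟨y, rfl⟩ := Submodule.Quotient.mk_surjective S m
        have h := congrArg (LinearMap.lTensor B S.mkQ) (congrArg (fun w => (x ⊗ₜ[↥B'] (1 : B)) * w) (hsym y))
        simp only [Algebra.TensorProduct.tmul_mul_tmul, mul_one, one_mul, LinearMap.lTensor_tmul,
          Submodule.mkQ_apply] at h
        rw [h, show Submodule.Quotient.mk (p := S) (1 : B) = 0 from
          (Submodule.Quotient.mk_eq_zero S).2 ⟨1, by simp⟩, tmul_zero]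
    rw [hz a, hz b]
  have hN : Subsingleton (B ⧸ S) := by
    haveI : Module.Finite B' (B ⧸ S) := Module.Finite.quotient B' S
    haveI := hzero
    haveI hNN : Subsingleton ((B ⧸ S) ⊗[↥B'] (B ⧸ S)) :=
      (LinearMap.rTensor_surjective (B ⧸ S) S.mkQ_surjective).subsingleton
    rw [← Module.support_eq_empty_iff (R := ↥B'), Set.eq_empty_iff_forall_notMem]
    intro q hq
    haveI := Module.mem_support_iff_nontrivial_residueField_tensorProduct (M := B ⧸ S) q |>.1 hq
    let κ := q.asIdeal.ResidueField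
    let V := κ ⊗[↥B'] (B ⧸ S)
    haveI : Subsingleton (κ ⊗[↥B'] ((B ⧸ S) ⊗[↥B'] (B ⧸ S))) := ⟨fun a b => by
      have hz : ∀ z : κ ⊗[↥B'] ((B ⧸ S) ⊗[↥B'] (B ⧸ S)), z = 0 := fun z => by
        induction z using TensorProduct.induction_on with
        | zero => rfl
        | tmul c w => rw [Subsingleton.elim w 0, tmul_zero]
        | add z w hz hw => rw [hz, hw, add_zero]
      rw [hz a, hz b]⟩
    haveI : Subsingleton (V ⊗[κ] V) :=
      (TensorProduct.AlgebraTensorModule.distribBaseChange ↥B' κ (B ⧸ S) (B ⧸ S)).symm.injective.subsingleton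
    obtain ⟨w, hw⟩ := exists_ne (0 : V)
    obtain ⟨φ, hφ⟩ : ∃ φ : Module.Dual κ V, φ w ≠ 0 := by
      by_contra hcon
      push Not at hcon
      exact hw ((Module.forall_dual_apply_eq_zero_iff κ _).1 hcon)
    have h := congrArg (TensorProduct.lift ((LinearMap.mul κ κ).compl₁₂ φ φ)) (Subsingleton.elim (w ⊗ₜ[κ] w) 0)
    rw [map_zero, TensorProduct.lift.tmul] at h
    exact hφ (mul_self_eq_zero.1 h)
  rw [eq_top_iff]
  intro b _
  obtain ⟨c, hc⟩ : b ∈ S := (Submodule.Quotient.mk_eq_zero S).1 (Subsingleton.elim _ _)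
  rw [← hc]
  exact c.2

theorem exists_lift (p : ℕ) [Fact p.Prime] (R A B : Type u)
    [CommRing R] [CommRing A] [CommRing B] [CharP R p] [Algebra R A]
    (hRA : Function.Surjective (algebraMap R A)) [Algebra A B] [Module.Finite A B]
    [Algebra.Etale A B] :
    ∃ (C : Type u) (_ : CommRing C) (_ : Algebra R C), Module.Finite R C ∧ Algebra.Etale R C ∧
      ∃ ψ : A ⊗[R] C →ₐ[A] B, Function.Surjective ψ := by
  classical
  letI algB : Algebra R B := ((algebraMap A B).comp (algebraMap R A)).toAlgebra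
  haveI : IsScalarTower R A B := IsScalarTower.of_algebraMap_eq fun _ => rfl
  rcases subsingleton_or_nontrivial B with hB | hB
  · refine ⟨R, inferInstance, inferInstance, Module.Finite.self R, inferInstance,
      Algebra.TensorProduct.lift (Algebra.ofId A B) (Algebra.ofId R B) (fun _ _ => Commute.all _ _),
      fun b => ⟨0, Subsingleton.elim _ _⟩⟩
  haveI : CharP B p := (CharP.charP_iff_prime_eq_zero (Fact.out : p.Prime)).2 (by
    rw [← map_natCast (algebraMap R B), CharP.cast_eq_zero, map_zero])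
  obtain ⟨m, g, hg⟩ := Module.Finite.exists_fin (R := A) (M := B)
  have hmem : ∀ b : B, b ∈ Submodule.span A (Set.range g) := fun b => hg ▸ trivial
  have hpw : ∀ b : B, b ∈ Submodule.span A (Set.range fun j => g j ^ p) := by
    intro b
    have hb : b ∈ Submodule.span A (Set.range fun b : B => b ^ p) := span_pow_eq_top p A B ▸ trivial
    refine Submodule.span_le.2 ?_ hb
    rintro _ ⟨y, rfl⟩
    obtain ⟨cy, rfl⟩ := (Submodule.mem_span_range_iff_exists_fun A).1 (hmem y)
    show (∑ i, cy i • g i) ^ p ∈ _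
    rw [sum_pow_char]
    refine sum_mem fun i _ => ?_
    rw [smul_pow]
    exact Submodule.smul_mem _ _ (Submodule.subset_span ⟨i, rfl⟩)
  have hlin : ∀ (b : B) (v : Fin m → B), b ∈ Submodule.span A (Set.range v) →
      ∃ r : Fin m → R, ∑ j, algebraMap R B (r j) * v j = b := by
    intro b v hb
    obtain ⟨cb, rfl⟩ := (Submodule.mem_span_range_iff_exists_fun A).1 hb
    choose r hr using fun j => hRA (cb j)
    exact ⟨r, Finset.sum_congr rfl fun j _ => by rw [IsScalarTower.algebraMap_apply R A B, hr, Algebra.smul_def]⟩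
  choose a ha using fun i => hlin (g i) (fun j => g j ^ p) (hpw (g i))
  choose c hc using fun j => hlin (g j ^ p) g (hmem _)
  let am : Matrix (Fin m) (Fin m) R := Matrix.of a
  let cm : Matrix (Fin m) (Fin m) R := Matrix.of c
  let M : Matrix (Fin m ⊕ Fin m) (Fin m ⊕ Fin m) R := Matrix.fromBlocks cm (-1) (1 - am * cm) am
  let N : Matrix (Fin m ⊕ Fin m) (Fin m ⊕ Fin m) R := Matrix.fromBlocks am 1 (cm * am - 1) cm
  have hMN : M * N = 1 := by
    rw [Matrix.fromBlocks_multiply, ← Matrix.fromBlocks_one]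
    congr 1
    · rw [Matrix.neg_mul, Matrix.one_mul]; abel
    · rw [Matrix.neg_mul, Matrix.one_mul, Matrix.mul_one]; abel
    · rw [Matrix.sub_mul, Matrix.one_mul, Matrix.mul_sub, Matrix.mul_one, Matrix.mul_assoc]; abel
    · rw [Matrix.mul_one, sub_add_cancel]
  let z : Fin m ⊕ Fin m → B := Sum.elim g (fun _ => 0)
  have hcB : (cm.map (algebraMap R B)).mulVec g = fun j => g j ^ p := funext fun j => hc j
  have haB : (am.map (algebraMap R B)).mulVec (fun j => g j ^ p) = g := funext fun i => ha i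
  have hz : (M.map (algebraMap R B)).mulVec z = fun j => z j ^ p := by
    rw [Matrix.fromBlocks_map, Matrix.fromBlocks_mulVec]
    have h0 : (z ∘ Sum.inr : Fin m → B) = 0 := rfl
    rw [h0, Matrix.mulVec_zero, Matrix.mulVec_zero, add_zero, add_zero, show z ∘ Sum.inl = g from rfl, hcB,
      Matrix.map_sub _ (map_sub _), Matrix.map_mul, Matrix.map_one _ (map_zero _) (map_one _), Matrix.sub_mulVec,
      Matrix.one_mulVec, ← Matrix.mulVec_mulVec, hcB, haB, sub_self]
    funext j
    rcases j with j | j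
    · rfl
    · exact (zero_pow (Fact.out : p.Prime).ne_zero).symm
  -- the algebra
  let v : (Fin m ⊕ Fin m) → MvPolynomial (Fin m ⊕ Fin m) R := fun j => X j ^ p - ∑ k, C (M j k) * X k
  let Cr := MvPolynomial (Fin m ⊕ Fin m) R ⧸ (Ideal.span (Set.range v))
  have hv : ∀ j, (Ideal.Quotient.mk (Ideal.span (Set.range v)) (X j)) ^ p =
      ∑ k, M j k • Ideal.Quotient.mk (Ideal.span (Set.range v)) (X k) := fun j => by
    have h : Ideal.Quotient.mk (Ideal.span (Set.range v)) (v j) = 0 :=
      Ideal.Quotient.eq_zero_iff_mem.2 (Ideal.subset_span ⟨j, rfl⟩)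
    rw [map_sub, map_pow, sub_eq_zero, map_sum] at h
    rw [h]
    refine Finset.sum_congr rfl fun k _ => ?_
    rw [map_mul]
    exact (Algebra.smul_def (M j k) (Ideal.Quotient.mk (Ideal.span (Set.range v)) (X k))).symm
  have hfin : Module.Finite R Cr := by
    refine finite_of_reduce (fun j => Ideal.Quotient.mk (Ideal.span (Set.range v)) (X j))
      (fun _ : Unit => (1 : Cr)) p ?_ fun j _ => ?_
    · rw [eq_top_iff]
      rintro x -
      obtain ⟨F, rfl⟩ := Ideal.Quotient.mk_surjective x
      induction F using MvPolynomial.induction_on' with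
      | add F G hF hG => rw [map_add]; exact add_mem hF hG
      | monomial s r =>
        rw [monomial_eq, map_mul, map_finsuppProd]
        have h2 : Ideal.Quotient.mk (Ideal.span (Set.range v)) (C r) = algebraMap R Cr r := rfl
        rw [h2, ← Algebra.smul_def]
        refine Submodule.smul_mem _ _ (Submodule.subset_span ⟨(fun j => s j, ()), ?_⟩)
        simp [Finsupp.prod_fintype, map_pow]
    · rw [mul_one, hv j]
      refine sum_mem fun k _ => Submodule.smul_mem _ _ (Submodule.subset_span ?_)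
      refine ⟨Pi.single k 1, (), ?_, ?_⟩
      · rw [Finset.sum_pi_single']; simp [(Fact.out : p.Prime).one_lt]
      · rw [mul_one, Finset.prod_eq_single k (fun j _ hj => by rw [Pi.single_eq_of_ne hj, pow_zero]) (by simp)]
        simp
  have hder : ∀ i j, pderiv i (v j) = C (-(M j i)) := fun i j => by
    have hp0 : (p : MvPolynomial (Fin m ⊕ Fin m) R) = 0 := by
      rw [← map_natCast (C : R →+* MvPolynomial (Fin m ⊕ Fin m) R), CharP.cast_eq_zero, map_zero]
    simp only [v, map_sub, pderiv_pow, hp0, zero_mul, map_sum, pderiv_mul, pderiv_C, zero_add, pderiv_X,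
      Pi.single_apply, mul_ite, mul_one, mul_zero, ite_self, zero_sub]
    rw [Finset.sum_ite_eq' Finset.univ i, if_pos (Finset.mem_univ i), map_neg]
  let P0 := Algebra.PreSubmersivePresentation.naive (R := R) (v := v) id Function.injective_id
  have hjac : IsUnit P0.jacobian := by
    rw [Algebra.PreSubmersivePresentation.jacobian_eq_jacobiMatrix_det]
    have hJ : P0.jacobiMatrix = (-M).transpose.map C := by
      ext i j
      rw [Algebra.PreSubmersivePresentation.jacobiMatrix_naive]
      exact congrArg _ (hder i j)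
    rw [hJ, ← RingHom.mapMatrix_apply, ← RingHom.map_det, Matrix.det_transpose, Matrix.det_neg]
    refine (IsUnit.map _ ?_).map _
    exact ((isUnit_one.neg.pow _)).mul (Matrix.isUnit_det_of_right_inverse hMN)
  let SP : Algebra.SubmersivePresentation R Cr (Fin m ⊕ Fin m) (Fin m ⊕ Fin m) := ⟨P0, hjac⟩
  haveI : Algebra.IsStandardSmoothOfRelativeDimension 0 R Cr :=
    SP.isStandardSmoothOfRelativeDimension (by simp [Algebra.Presentation.dimension])
  haveI : Algebra.Etale R Cr := inferInstance
  let φ : Cr →ₐ[R] B := Ideal.Quotient.liftₐ _ (MvPolynomial.aeval z) fun f hf => by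
    refine (Ideal.span_le (I := RingHom.ker (MvPolynomial.aeval (R := R) z))).2 ?_ hf
    rintro _ ⟨j, rfl⟩
    have h := congrFun hz j
    simp only [Matrix.mulVec, dotProduct, Matrix.map_apply] at h
    simp only [v, SetLike.mem_coe, RingHom.mem_ker, map_sub, map_pow, map_sum, map_mul, MvPolynomial.aeval_X,
      MvPolynomial.aeval_C]
    rw [h, sub_self]
  refine ⟨Cr, inferInstance, inferInstance, hfin, inferInstance,
    Algebra.TensorProduct.lift (Algebra.ofId A B) φ (fun _ _ => Commute.all _ _), fun b => ?_⟩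
  obtain ⟨cb, hcb⟩ := (Submodule.mem_span_range_iff_exists_fun A).1 (hmem b)
  refine ⟨∑ i, cb i ⊗ₜ Ideal.Quotient.mk _ (X (Sum.inl i)), ?_⟩
  rw [map_sum, ← hcb]
  refine Finset.sum_congr rfl fun i _ => ?_
  rw [Algebra.TensorProduct.lift_tmul, Algebra.smul_def]
  congr 1
  exact MvPolynomial.aeval_X z (Sum.inl i)

end Groth.Agent.ArtSchr31
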