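import Groth.Agent.ArtSchr31.Reduce
import Mathlib.RingTheory.Etale.Kaehler
import Mathlib.RingTheory.Kaehler.Polynomial
import Mathlib.RingTheory.Kaehler.JacobiZariski
import Mathlib.RingTheory.Smooth.Basic
import Mathlib.RingTheory.RingHom.Etale
import Mathlib.RingTheory.RingHom.Finite
import Mathlib.RingTheory.RingHom.Smooth
import Mathlib.RingTheory.NoetherNormalization
import Mathlib.RingTheory.Unramified.Field
import Mathlib.RingTheory.OrzechProperty
import Mathlib.RingTheory.AlgebraicIndependent.TranscendenceBasis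
import Mathlib.RingTheory.Ideal.MinimalPrime.Localization
import Mathlib.RingTheory.Smooth.Locus

/-! In characteristic `p` an étale algebra over affine space is finite étale over affine space. -/

set_option autoImplicit false

universe u

open MvPolynomial TensorProduct

namespace Groth.Agent.ArtSchr31

variable {k : Type u} [Field k] {n : ℕ} {C : Type u} [CommRing C] [Algebra k C]

theorem derivation_eq_zero (g : MvPolynomial (Fin n) k →ₐ[k] C) (hg : g.toRingHom.Etale)
    {M : Type u} [AddCommGroup M] [Module C M] [Module k M] [IsScalarTower k C M]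
    (D : Derivation k C M) (hD : ∀ i, D (g (X i)) = 0) (c : C) : D c = 0 := by
  algebraize [g.toRingHom]
  letI : Module (MvPolynomial (Fin n) k) M := Module.compHom M (algebraMap (MvPolynomial (Fin n) k) C)
  haveI : IsScalarTower (MvPolynomial (Fin n) k) C M := ⟨fun r c m => by
    show (r • c) • m = g r • c • m
    rw [Algebra.smul_def, mul_smul]; rfl⟩
  have h0 : ∀ r, D (g r) = 0 := fun r => by
    induction r using MvPolynomial.induction_on with
    | C a => rw [← MvPolynomial.algebraMap_eq, AlgHom.commutes, Derivation.map_algebraMap]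
    | add p q hp hq => rw [map_add, map_add, hp, hq, add_zero]
    | mul_X p i hp => rw [map_mul, Derivation.leibniz, hp, hD, smul_zero, smul_zero, add_zero]
  let D' : Derivation (MvPolynomial (Fin n) k) C M :=
    { toFun := D
      map_add' := map_add D
      map_smul' := fun r c => by
        show D (g r * c) = g r • D c
        rw [Derivation.leibniz, h0, smul_zero, add_zero]
      map_one_eq_zero' := D.map_one_eq_zero
      leibniz' := D.leibniz }
  haveI : Subsingleton (Ω[C⁄MvPolynomial (Fin n) k]) := inferInstance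
  have h : D'.liftKaehlerDifferential (KaehlerDifferential.D _ C c) = D' c := Derivation.liftKaehlerDifferential_comp_D D' c
  rw [Subsingleton.elim (KaehlerDifferential.D (MvPolynomial (Fin n) k) C c) 0, map_zero] at h
  exact h.symm

theorem smooth_and_basis (g : MvPolynomial (Fin n) k →ₐ[k] C) (hg : g.toRingHom.Etale) :
    Algebra.Smooth k C ∧ Nonempty (Module.Basis (Fin n) C Ω[C⁄k]) := by
  algebraize [g.toRingHom]
  haveI : IsScalarTower k (MvPolynomial (Fin n) k) C := IsScalarTower.of_algebraMap_eq fun r => (g.commutes r).symm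
  haveI : Algebra.Smooth (MvPolynomial (Fin n) k) C := inferInstance
  haveI : Algebra.Smooth k (MvPolynomial (Fin n) k) := ⟨inferInstance, inferInstance⟩
  exact ⟨Algebra.Smooth.comp k (MvPolynomial (Fin n) k) C,
    ⟨((KaehlerDifferential.mvPolynomialBasis k (Fin n)).baseChange C).map
      (KaehlerDifferential.tensorKaehlerEquivOfFormallyEtale k (MvPolynomial (Fin n) k) C)⟩⟩

theorem etale_of_kaehler (φ : MvPolynomial (Fin n) k →ₐ[k] C) [Algebra.Smooth k C]
    (b : Module.Basis (Fin n) C Ω[C⁄k])
    (h : letI := φ.toRingHom.toAlgebra; Subsingleton Ω[C⁄MvPolynomial (Fin n) k]) : φ.toRingHom.Etale := by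
  letI : Algebra (MvPolynomial (Fin n) k) C := φ.toRingHom.toAlgebra
  haveI : IsScalarTower k (MvPolynomial (Fin n) k) C := IsScalarTower.of_algebraMap_eq fun r => (φ.commutes r).symm
  haveI : Subsingleton Ω[C⁄MvPolynomial (Fin n) k] := h
  let P := MvPolynomial (Fin n) k
  have hsurj : Function.Surjective (KaehlerDifferential.mapBaseChange k P C) := by
    intro y
    exact (KaehlerDifferential.exact_mapBaseChange_map k P C y).1 (Subsingleton.elim _ _)
  let e : (C ⊗[P] Ω[P⁄k]) ≃ₗ[C] Ω[C⁄k] :=
    ((KaehlerDifferential.mvPolynomialBasis k (Fin n)).baseChange C).equiv b (Equiv.refl _)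
  haveI : Module.Finite C Ω[C⁄k] := Module.Finite.of_basis b
  have hinj : Function.Injective (KaehlerDifferential.mapBaseChange k P C) := by
    have h2 := OrzechProperty.injective_of_surjective_endomorphism
      ((KaehlerDifferential.mapBaseChange k P C).comp e.symm.toLinearMap) (hsurj.comp e.symm.surjective)
    intro x y hxy
    have := @h2 (e x) (e y) (by simp [hxy])
    exact e.injective this
  haveI : Subsingleton (Algebra.H1Cotangent P C) := by
    refine ⟨fun a b => ?_⟩
    have hδ : ∀ a : Algebra.H1Cotangent P C, a = 0 := fun a => by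
      have h3 : Algebra.H1Cotangent.δ k P C a = 0 := hinj (by
        rw [map_zero]
        exact (Algebra.H1Cotangent.exact_δ_mapBaseChange k P C _).2 ⟨a, rfl⟩)
      obtain ⟨z, rfl⟩ := (Algebra.H1Cotangent.exact_map_δ k P C a).1 h3
      rw [Subsingleton.elim z 0, map_zero]
    rw [hδ a, hδ b]
  haveI : Algebra.FormallyUnramified P C := ⟨h⟩
  haveI : Algebra.FormallySmooth P C := (Algebra.formallySmooth_iff P C).2 ⟨inferInstance, inferInstance⟩
  haveI : Algebra.FormallyEtale P C := Algebra.FormallyEtale.of_formallyUnramified_and_formallySmooth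
  haveI : Algebra.FiniteType k C := inferInstance
  haveI : Algebra.FiniteType P C := Algebra.FiniteType.of_restrictScalars_finiteType k P C
  haveI : Algebra.Etale P C := ⟨inferInstance, Algebra.FinitePresentation.of_finiteType.1 inferInstance⟩
  exact RingHom.etale_algebraMap.2 (inferInstance : Algebra.Etale P C)

theorem noether_le [Nontrivial C] (g : MvPolynomial (Fin n) k →ₐ[k] C) (hg : g.toRingHom.Etale) {s : ℕ}
    (h : MvPolynomial (Fin s) k →ₐ[k] C) (hh : Function.Injective h) : s ≤ n := by
  classical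
  algebraize [g.toRingHom]
  haveI : IsScalarTower k (MvPolynomial (Fin n) k) C := IsScalarTower.of_algebraMap_eq fun r => (g.commutes r).symm
  obtain ⟨q, hq, hqc⟩ := Ideal.exists_comap_eq_of_mem_minimalPrimes_of_injective (f := h.toRingHom) hh ⊥
    (by rw [IsDomain.minimalPrimes_eq_singleton_bot]; rfl)
  haveI := hq
  let L := FractionRing (C ⧸ q)
  let π : C →ₐ[k] L := (IsScalarTower.toAlgHom k (C ⧸ q) L).comp (Ideal.Quotient.mkₐ k q)
  have hinj : Function.Injective (π.comp h) := fun a b hab => by
    have h1 : Ideal.Quotient.mk q (h a) = Ideal.Quotient.mk q (h b) := IsFractionRing.injective (C ⧸ q) L hab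
    rw [← sub_eq_zero, ← map_sub, ← map_sub, Ideal.Quotient.eq_zero_iff_mem] at h1
    have h2 : a - b ∈ Ideal.comap h.toRingHom q := h1
    rw [hqc, Ideal.mem_bot, sub_eq_zero] at h2
    exact h2
  let x : Fin n → L := fun i => π (g (X i))
  let K := IntermediateField.adjoin k (Set.range x)
  let ψ : MvPolynomial (Fin n) k →ₐ[k] K := aeval fun i => ⟨x i, IntermediateField.subset_adjoin k _ ⟨i, rfl⟩⟩
  letI : Algebra (MvPolynomial (Fin n) k) K := ψ.toRingHom.toAlgebra
  have hψ : ∀ r, (ψ r : L) = π (g r) := fun r => by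
    show (K.val.comp ψ) r = (π.comp g) r
    refine DFunLike.congr_fun ?_ r
    ext i
    simp [ψ, x]
  haveI : IsScalarTower (MvPolynomial (Fin n) k) K L := IsScalarTower.of_algebraMap_eq fun r => by
    rw [IsScalarTower.algebraMap_apply (MvPolynomial (Fin n) k) C L]
    exact (hψ r).symm
  haveI : Algebra.FormallyUnramified C (C ⧸ q) := inferInstance
  haveI : Algebra.FormallyUnramified (C ⧸ q) L := Algebra.FormallyUnramified.of_isLocalization (nonZeroDivisors _)
  haveI : Algebra.FormallyUnramified C L := Algebra.FormallyUnramified.comp C (C ⧸ q) L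
  haveI : Algebra.FormallyUnramified (MvPolynomial (Fin n) k) L :=
    Algebra.FormallyUnramified.comp (MvPolynomial (Fin n) k) C L
  haveI : Algebra.FormallyUnramified K L := Algebra.FormallyUnramified.of_restrictScalars (MvPolynomial (Fin n) k) K L
  haveI : Algebra.EssFiniteType (MvPolynomial (Fin n) k) C := inferInstance
  haveI : Algebra.EssFiniteType C (C ⧸ q) := inferInstance
  haveI : Algebra.EssFiniteType (C ⧸ q) L := Algebra.EssFiniteType.of_isLocalization L (nonZeroDivisors _)
  haveI : Algebra.EssFiniteType C L := Algebra.EssFiniteType.comp C (C ⧸ q) L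
  haveI : Algebra.EssFiniteType (MvPolynomial (Fin n) k) L := Algebra.EssFiniteType.comp (MvPolynomial (Fin n) k) C L
  haveI : Algebra.EssFiniteType K L := Algebra.EssFiniteType.of_comp (MvPolynomial (Fin n) k) K L
  haveI : Module.Finite K L := Algebra.FormallyUnramified.finite_of_free K L
  haveI : Algebra.IsAlgebraic K L := Algebra.IsAlgebraic.of_finite K L
  haveI : Algebra.IsAlgebraic (Algebra.adjoin k (Set.range x)) L :=
    IntermediateField.isAlgebraic_adjoin_iff_top.1 (inferInstance : Algebra.IsAlgebraic K L)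
  have h1 : Algebra.trdeg k (MvPolynomial (Fin s) k) ≤ Algebra.trdeg k L := trdeg_le_of_injective (π.comp h) hinj
  have h2 : Algebra.trdeg k L ≤ Cardinal.mk (Set.range x) := Algebra.IsAlgebraic.trdeg_le_cardinalMk k (Set.range x)
  rw [MvPolynomial.trdeg_of_isDomain, Cardinal.mk_fin, Cardinal.lift_natCast] at h1
  have h3 := h1.trans h2
  rw [Cardinal.mk_fintype, Nat.cast_le] at h3
  exact h3.trans ((Fintype.card_range_le x).trans_eq (Fintype.card_fin n))

theorem finite_twist (g : MvPolynomial (Fin n) k →ₐ[k] C) {m : ℕ} (t : Fin n → C) (c : Fin m → C) (q : ℕ) (hq : 0 < q)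
    (hspan : ∀ y : C, ∃ P : Fin m → MvPolynomial (Fin n) k, ∑ γ, aeval t (P γ) * c γ = y)
    (hrel : ∀ i b, ∃ P : Fin m → MvPolynomial (Fin n) k, (∑ γ, aeval t (P γ) * c γ = g (X i) * c b) ∧
      ∀ γ, (P γ).totalDegree < q) :
    (aeval fun i => g (X i) + t i ^ q : MvPolynomial (Fin n) k →ₐ[k] C).toRingHom.Finite := by
  classical
  let φ : MvPolynomial (Fin n) k →ₐ[k] C := aeval fun i => g (X i) + t i ^ q
  letI : Algebra (MvPolynomial (Fin n) k) C := φ.toRingHom.toAlgebra
  haveI : IsScalarTower k (MvPolynomial (Fin n) k) C := IsScalarTower.of_algebraMap_eq fun r => (φ.commutes r).symm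
  have hterm : ∀ (γ : Fin m) (F : MvPolynomial (Fin n) k) (S : Submodule (MvPolynomial (Fin n) k) C),
      (∀ α ∈ F.support, (∏ j, t j ^ α j) * c γ ∈ S) → aeval t F * c γ ∈ S := by
    intro γ F S hS
    rw [F.as_sum, map_sum, Finset.sum_mul]
    refine sum_mem fun α hα => ?_
    rw [aeval_monomial, mul_assoc, Finsupp.prod_fintype _ _ (fun _ => pow_zero _),
      show algebraMap k C (coeff α F) = algebraMap (MvPolynomial (Fin n) k) C (MvPolynomial.C (coeff α F)) from
        (φ.commutes (coeff α F)).symm,
      ← Algebra.smul_def]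
    exact S.smul_mem _ (hS α hα)
  refine RingHom.finite_algebraMap.2 (finite_of_reduce (R := MvPolynomial (Fin n) k) t c q ?_ fun i b => ?_)
  · rw [eq_top_iff]
    rintro y -
    obtain ⟨P, rfl⟩ := hspan y
    exact sum_mem fun γ _ => hterm γ _ _ fun α _ => Submodule.subset_span ⟨(fun j => α j, γ), rfl⟩
  · obtain ⟨P, hP, hdeg⟩ := hrel i b
    have h1 : t i ^ q * c b = (X i : MvPolynomial (Fin n) k) • ((∏ j, t j ^ (0 : Fin n → ℕ) j) * c b) - g (X i) * c b := by
      rw [Algebra.smul_def, show algebraMap (MvPolynomial (Fin n) k) C (X i) = g (X i) + t i ^ q from aeval_X _ i]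
      simp only [Pi.zero_apply, pow_zero, Finset.prod_const_one, one_mul]
      ring
    rw [h1, ← hP]
    refine sub_mem (Submodule.smul_mem _ _ (Submodule.subset_span ⟨0, b, ?_, rfl⟩)) (sum_mem fun γ _ =>
      hterm γ _ _ fun α hα => Submodule.subset_span ⟨fun j => α j, γ, ?_, rfl⟩)
    · simpa using hq
    · have h2 := le_totalDegree hα
      rw [Finsupp.sum_fintype _ _ (fun _ => rfl)] at h2
      exact h2.trans_lt (hdeg γ)

theorem exists_finite_etale (p : ℕ) [Fact p.Prime] [CharP k p]
    (g : MvPolynomial (Fin n) k →ₐ[k] C) (hg : g.toRingHom.Etale) :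
    ∃ φ : MvPolynomial (Fin n) k →ₐ[k] C, φ.toRingHom.Finite ∧ φ.toRingHom.Etale := by
  classical
  rcases subsingleton_or_nontrivial C with hC | hC
  · refine ⟨g, ?_, hg⟩
    letI := g.toRingHom.toAlgebra
    exact RingHom.finite_algebraMap.2 (inferInstance : Module.Finite (MvPolynomial (Fin n) k) C)
  obtain ⟨hsm, ⟨bΩ⟩⟩ := smooth_and_basis g hg
  haveI := hsm
  obtain ⟨s, h, hh, hfin⟩ := exists_finite_inj_algHom_of_fg k C
  have hs := noether_le g hg h hh
  let t : Fin n → C := fun i => if hi : (i : ℕ) < s then h (X ⟨i, hi⟩) else 0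
  have hth : ∀ r : MvPolynomial (Fin s) k, aeval t (rename (Fin.castLE hs) r) = h r := fun r => by
    rw [aeval_rename]
    refine DFunLike.congr_fun ?_ r
    ext i
    simp [t]
  algebraize [h.toRingHom]
  haveI : IsScalarTower k (MvPolynomial (Fin s) k) C := IsScalarTower.of_algebraMap_eq fun r => (h.commutes r).symm
  haveI : Module.Finite (MvPolynomial (Fin s) k) C := hfin
  obtain ⟨m, c, hc⟩ := Module.Finite.exists_fin (R := MvPolynomial (Fin s) k) (M := C)
  have hdec : ∀ y : C, ∃ P : Fin m → MvPolynomial (Fin n) k, ∑ γ, aeval t (P γ) * c γ = y := fun y => by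
    obtain ⟨cy, rfl⟩ := (Submodule.mem_span_range_iff_exists_fun (MvPolynomial (Fin s) k)).1
      (show y ∈ Submodule.span (MvPolynomial (Fin s) k) (Set.range c) from hc ▸ trivial)
    refine ⟨fun γ => rename (Fin.castLE hs) (cy γ), Finset.sum_congr rfl fun γ _ => ?_⟩
    rw [hth, Algebra.smul_def]
    rfl
  choose P hP using hdec
  obtain ⟨d, hd⟩ : ∃ d : ℕ, ∀ (i : Fin n) (b γ : Fin m), (P (g (X i) * c b) γ).totalDegree ≤ d := by
    obtain ⟨d, hd⟩ := (Set.finite_range fun x : Fin n × Fin m × Fin m =>
      (P (g (X x.1) * c x.2.1) x.2.2).totalDegree).bddAbove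
    exact ⟨d, fun i b γ => hd ⟨(i, b, γ), rfl⟩⟩
  obtain ⟨N, hN⟩ := pow_unbounded_of_one_lt (d + 1) (Fact.out : p.Prime).one_lt
  let q := p ^ N
  let u : Fin n → C := fun i => g (X i) + t i ^ q
  let φ : MvPolynomial (Fin n) k →ₐ[k] C := aeval u
  haveI : CharP C p := charP_of_injective_algebraMap (algebraMap k C).injective p
  refine ⟨φ, ?_, etale_of_kaehler φ bΩ ?_⟩
  · refine finite_twist g t c q (pow_pos (Fact.out : p.Prime).pos N) (fun y => ⟨P y, hP y⟩)
      fun i b => ⟨P (g (X i) * c b), hP _, fun γ => ?_⟩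
    have h3 := hd i b γ
    show _ < p ^ N
    omega
  · letI : Algebra (MvPolynomial (Fin n) k) C := φ.toRingHom.toAlgebra
    haveI : IsScalarTower k (MvPolynomial (Fin n) k) C := IsScalarTower.of_algebraMap_eq fun r => (φ.commutes r).symm
    let D := (KaehlerDifferential.D (MvPolynomial (Fin n) k) C).restrictScalars k
    have hD : ∀ i, D (g (X i)) = 0 := fun i => by
      have h1 : D (u i) = 0 := by
        have := (KaehlerDifferential.D (MvPolynomial (Fin n) k) C).map_algebraMap (X i)
        rwa [show algebraMap (MvPolynomial (Fin n) k) C (X i) = u i from aeval_X u i] at this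
      have h0 : (p : C) = 0 := CharP.cast_eq_zero C p
      have h2 : D (t i ^ q) = 0 := by
        have hN0 : N ≠ 0 := by rintro rfl; simp at hN
        rw [Derivation.leibniz_pow, ← Nat.cast_smul_eq_nsmul C, show ((q : ℕ) : C) = 0 by
          simp only [q, Nat.cast_pow, h0, zero_pow hN0], zero_smul]
      simpa [u, h2] using h1
    have hz : ∀ c, D c = 0 := fun c => derivation_eq_zero g hg D hD c
    refine subsingleton_of_forall_eq 0 fun w => ?_
    have hw : w ∈ Submodule.span C (Set.range (KaehlerDifferential.D (MvPolynomial (Fin n) k) C)) := by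
      rw [KaehlerDifferential.span_range_derivation]; trivial
    induction hw using Submodule.span_induction with
    | mem z hz' => obtain ⟨c, rfl⟩ := hz'; exact hz c
    | zero => rfl
    | add a b _ _ ha hb => rw [ha, hb, add_zero]
    | smul a z _ hz' => rw [hz', smul_zero]

end Groth.Agent.ArtSchr31
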