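import Mathlib.RingTheory.Finiteness.Defs
import Mathlib.Algebra.BigOperators.Finsupp.Basic
import Mathlib.Algebra.Algebra.Basic
import Mathlib.RingTheory.Finiteness.Basic

/-! A reduction lemma for finiteness. -/

set_option autoImplicit false

universe u v

namespace Groth.Agent.ArtSchr31

theorem finite_of_reduce {R : Type u} {S : Type v} [CommRing R] [CommRing S] [Algebra R S]
    {ι β : Type*} [Fintype ι] [Fintype β] (t : ι → S) (c : β → S) (q : ℕ)
    (hspan : Submodule.span R (Set.range fun ab : (ι → ℕ) × β => (∏ i, t i ^ ab.1 i) * c ab.2) = ⊤)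
    (hrel : ∀ i b, t i ^ q * c b ∈ Submodule.span R
      {z | ∃ (α : ι → ℕ) (b' : β), ∑ j, α j < q ∧ z = (∏ j, t j ^ α j) * c b'}) :
    Module.Finite R S := by
  classical
  let T : Set S := Set.range fun ab : (ι → Fin q) × β => (∏ i, t i ^ (ab.1 i : ℕ)) * c ab.2
  have key : ∀ (N : ℕ) (α : ι → ℕ) (b : β), ∑ j, α j = N → (∏ j, t j ^ α j) * c b ∈ Submodule.span R T := by
    intro N
    induction N using Nat.strong_induction_on with
    | _ N ih =>
      intro α b hN
      by_cases h : ∀ j, α j < q
      · exact Submodule.subset_span ⟨(fun j => ⟨α j, h j⟩, b), rfl⟩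
      · push Not at h
        obtain ⟨i, hi⟩ := h
        let α' : ι → ℕ := Function.update α i (α i - q)
        have hsum : (∑ j, α' j) + q = ∑ j, α j := by
          rw [Finset.sum_update_of_mem (Finset.mem_univ i), add_right_comm, Nat.sub_add_cancel hi,
            ← Finset.erase_eq, Finset.add_sum_erase _ _ (Finset.mem_univ i)]
        have hprod : (∏ j, t j ^ α j) = (∏ j, t j ^ α' j) * t i ^ q := by
          rw [← Finset.mul_prod_erase _ _ (Finset.mem_univ i),
            ← Finset.mul_prod_erase (s := Finset.univ) (f := fun j => t j ^ α' j) (Finset.mem_univ i)]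
          rw [mul_right_comm, ← pow_add, show α' i + q = α i by simp [α', Nat.sub_add_cancel hi]]
          congr 1
          refine Finset.prod_congr rfl fun j hj => ?_
          simp [α', Finset.ne_of_mem_erase hj]
        rw [hprod, mul_assoc]
        have hmem := hrel i b
        generalize t i ^ q * c b = z at hmem
        induction hmem using Submodule.span_induction with
        | mem z hz =>
          obtain ⟨γ, b', hγ, rfl⟩ := hz
          rw [← mul_assoc, ← Finset.prod_mul_distrib]
          simp only [← pow_add]
          exact ih (∑ j, (α' j + γ j)) (by rw [Finset.sum_add_distrib]; omega) _ b' rfl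
        | zero => rw [mul_zero]; exact zero_mem _
        | add z w _ _ hz hw => rw [mul_add]; exact add_mem hz hw
        | smul r z _ hz => rw [mul_smul_comm]; exact Submodule.smul_mem _ r hz
  refine ⟨?_⟩
  rw [show (⊤ : Submodule R S) = Submodule.span R T from le_antisymm ?_ le_top]
  · exact Submodule.fg_span (Set.finite_range _)
  · rw [← hspan, Submodule.span_le]
    rintro _ ⟨⟨α, b⟩, rfl⟩
    exact key _ α b rfl

end Groth.Agent.ArtSchr31
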